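import Groth.Agent.QC70.Closure
import Groth.Agent.Var76.ZeroScheme

/-!
Morphisms of modules defined by relations on sections which are locally functional.
-/

set_option autoImplicit false
set_option backward.isDefEq.respectTransparency.types false

universe u

open CategoryTheory AlgebraicGeometry TopologicalSpace Opposite

noncomputable section

namespace Groth.Agent.Pos60.Split

open Var76.LineBundle Var76.ZeroScheme

variable {X : Scheme.{u}} {F G : X.Modules}

/-- A locally functional relation on sections, compatible with restriction, sums and scalars. -/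
structure LocFun (R : ∀ U : X.Opens, Γ(F, U) → Γ(G, U) → Prop) : Prop where
  res : ∀ {U V : X.Opens} (h : V ≤ U) {x y}, R U x y → R V (res F h x) (res G h y)
  uniq : ∀ {U : X.Opens} {x y y'}, R U x y → R U x y' → y = y'
  exist : ∀ (U : X.Opens) (x : Γ(F, U)) (p : X), p ∈ U →
    ∃ (V : X.Opens) (hV : V ≤ U), p ∈ V ∧ ∃ y, R V (Var76.LineBundle.res F hV x) y
  glue : ∀ {U : X.Opens} {x y}, (∀ p ∈ U, ∃ (V : X.Opens) (hV : V ≤ U), p ∈ V ∧
    R V (Var76.LineBundle.res F hV x) (Var76.LineBundle.res G hV y)) → R U x y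
  add : ∀ {U : X.Opens} {x x' y y'}, R U x y → R U x' y' → R U (x + x') (y + y')
  smul : ∀ {U : X.Opens} (a : Γ(X, U)) {x y}, R U x y → R U (a • x) (a • y)

variable {R : ∀ U : X.Opens, Γ(F, U) → Γ(G, U) → Prop}

theorem LocFun.existsUnique (h : LocFun R) (U : X.Opens) (x : Γ(F, U)) : ∃! y, R U x y := by
  refine existsUnique_of_exists_of_unique ?_ fun _ _ => h.uniq
  choose V hV hpV y hy using fun p : U => h.exist U x p.1 p.2
  obtain ⟨t, ht⟩ := QC70.exists_glue G V hV (fun p hp => Opens.mem_iSup.2 ⟨⟨p, hp⟩, hpV ⟨p, hp⟩⟩) y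
    fun p q => by
      have h1 := h.res (inf_le_left : V p ⊓ V q ≤ V p) (hy p)
      have h2 := h.res (inf_le_right : V p ⊓ V q ≤ V q) (hy q)
      rw [res_res] at h1 h2
      exact h.uniq h1 h2
  refine ⟨t, h.glue fun p hp => ⟨V ⟨p, hp⟩, hV _, hpV _, ?_⟩⟩
  have h3 : Var76.LineBundle.res G (hV ⟨p, hp⟩) t = y ⟨p, hp⟩ := ht ⟨p, hp⟩
  rw [h3]
  exact hy _

/-- The function defined by a relation. -/
def LocFun.fn (h : LocFun R) (U : X.Opens) (x : Γ(F, U)) : Γ(G, U) := (h.existsUnique U x).choose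

theorem LocFun.fn_spec (h : LocFun R) (U : X.Opens) (x : Γ(F, U)) : R U x (h.fn U x) :=
  (h.existsUnique U x).choose_spec.1

theorem LocFun.fn_add (h : LocFun R) (U : X.Opens) (x x' : Γ(F, U)) :
    h.fn U (x + x') = h.fn U x + h.fn U x' :=
  h.uniq (h.fn_spec U _) (h.add (h.fn_spec U x) (h.fn_spec U x'))

theorem LocFun.fn_res (h : LocFun R) {U V : X.Opens} (hV : V ≤ U) (x : Γ(F, U)) :
    h.fn V (Var76.LineBundle.res F hV x) = Var76.LineBundle.res G hV (h.fn U x) :=
  h.uniq (h.fn_spec V _) (h.res hV (h.fn_spec U x))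

/-- The morphism defined by a relation. -/
def LocFun.hom (h : LocFun R) : F ⟶ G :=
  ⟨PresheafOfModules.homMk
    { app := fun U => AddCommGrpCat.ofHom (AddMonoidHom.mk' (h.fn U.unop) (h.fn_add U.unop))
      naturality := fun U V i => by
        ext x
        exact h.fn_res i.unop.le x }
    fun U r m => h.uniq (h.fn_spec U.unop _) (h.smul r (h.fn_spec U.unop m))⟩

theorem LocFun.hom_app (h : LocFun R) (U : X.Opens) (x : Γ(F, U)) : R U x (h.hom.app U x) :=
  h.fn_spec U x

end Groth.Agent.Pos60.Split
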