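import Groth.Agent.Pos60.Split.Points
import Groth.Agent.Grass5.GrSep
import Groth.Agent.Grass5.GrProps

/-!
The complement of a sub-bundle of a projective bundle.
-/

set_option autoImplicit false
set_option backward.isDefEq.respectTransparency.types false

universe u

open CategoryTheory CategoryTheory.Limits AlgebraicGeometry TopologicalSpace

noncomputable section

namespace Groth.Agent.Pos60.Split

open Grass5.QuotBC Grass5.GrChart Grass5.BasisLocus Grass5.GrLocal Props58.LocFree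

variable {X : Scheme.{u}}

theorem exists_basis_of_isFinLocFree {M : X.Modules} (hM : FlatMod.IsFinLocFree M) (x : X) :
    ∃ (U : X.Opens) (n : ℕ), IsAffineOpen U ∧ x ∈ U ∧ Nonempty (Module.Basis (Fin n) Γ(X, U) Γ(M, U)) := by
  obtain ⟨V, n, s, hxV, hs⟩ := isFinLocFree_iff.mp hM x
  obtain ⟨U, hU, hxU, hUV⟩ := exists_isAffineOpen_mem_and_subset hxV
  have hb := (hs.restrict (fun p hp => hUV hp : U ≤ V)).bijective (le_refl U)
  simp only [QC70.res_self] at hb
  have : Function.Bijective (Fintype.linearCombination Γ(X, U) fun k => QC70.res M (fun p hp => hUV hp : U ≤ V) (s k)) := by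
    have e : ⇑(Fintype.linearCombination Γ(X, U) fun k => QC70.res M (fun p hp => hUV hp : U ≤ V) (s k)) =
        fun a : Fin n → Γ(X, U) => ∑ k, a k • QC70.res M (fun p hp => hUV hp : U ≤ V) (s k) :=
      funext fun a => Fintype.linearCombination_apply _ _ _
    rw [e]
    exact hb
  exact ⟨U, n, hU, hxU, ⟨(Pi.basisFun Γ(X, U) (Fin n)).map (LinearEquiv.ofBijective _ this)⟩⟩

variable {A E B : X.Modules} (i : A ⟶ E) (p : E ⟶ B) (hip : i ≫ p = 0) {P PA PB : Scheme.{u}} {π : P ⟶ X}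
  {πA : PA ⟶ X} {πB : PB ⟶ X} {O1 : P.Modules} {q : (Scheme.Modules.pullback π).obj E ⟶ O1}
  {La : PA.Modules} {qA : (Scheme.Modules.pullback πA).obj A ⟶ La} {Lb : PB.Modules}
  {qB : (Scheme.Modules.pullback πB).obj B ⟶ Lb}
  (hG : Grass.IsGrass π E 1 O1 q) (hGA : Grass.IsGrass πA A 1 La qA)

/-- Where the image of a section of `A` generates. -/
def genSet {U : X.Opens} (a : Γ(A, U)) : Set P :=
  basisSet (img ((Scheme.Modules.pullback π).map i ≫ q) fun _ : Fin 1 => a)

theorem img_map {U : X.Opens} (a : Γ(A, U)) :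
    img ((Scheme.Modules.pullback π).map i ≫ q) (fun _ : Fin 1 => a) = img q (fun _ : Fin 1 => i.app U a) := by
  funext j
  exact congrArg (q.app (π ⁻¹ᵁ U)) (Amp73.map_app_pullS π i U a)

include hG in
theorem not_mem_range_of_mem_genSet (c : PB ⟶ P) (hc : c ≫ π = πB)
    (ec : (Scheme.Modules.pullback c).obj O1 ≅ Lb)
    (hcq : Grass.quotBC hc q ≫ ec.hom = (Scheme.Modules.pullback πB).map p ≫ qB) (hip : i ≫ p = 0)
    {U : X.Opens} (a : Γ(A, U)) {x : P} (hx : x ∈ genSet (π := π) (q := q) i a) : x ∉ Set.range c := by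
  rintro ⟨y, rfl⟩
  rw [genSet, img_map] at hx
  have h1 : y ∈ basisSet (img (Grass.quotBC hc q) fun _ : Fin 1 => i.app U a) := by
    rw [basisSet_img_quotBC hc hG.rank]
    exact hx
  rw [← basisSet_img_iso _ ec, hcq] at h1
  have h0 : (img ((Scheme.Modules.pullback πB).map p ≫ qB) fun _ : Fin 1 => i.app U a) = fun _ => 0 := by
    funext j
    refine (congrArg (qB.app (πB ⁻¹ᵁ U)) (Amp73.map_app_pullS πB p U (i.app U a))).trans ?_
    have : p.app U (i.app U a) = 0 := congr($(congrArg (fun φ => Scheme.Modules.Hom.app φ U) hip) a)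
    rw [this]
    exact (congrArg (qB.app (πB ⁻¹ᵁ U)) (map_zero _)).trans (map_zero _)
  rw [h0] at h1
  obtain ⟨hy, hb⟩ := h1
  refine one_ne_zero (α := PB.presheaf.stalk y) (congrFun (hb.1 (a₁ := fun _ => 1) (a₂ := fun _ => 0) ?_) 0)
  simp [germComb, QC70.germM_zero]

include hG hGA in
theorem exists_mem_genSet [A.IsQuasicoherent] {T : Scheme.{u}} (t : T ⟶ P) {k : T ⟶ X} (ht : t ≫ π = k)
    (h : T ⟶ PA) (hh : h ≫ πA = k) (e : (Scheme.Modules.pullback h).obj La ≅ (Scheme.Modules.pullback t).obj O1)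
    (he : Grass.quotBC hh qA ≫ e.hom = Grass.quotBC ht ((Scheme.Modules.pullback π).map i ≫ q))
    {U : X.Opens} (hU : IsAffineOpen U) {n : ℕ} (b : Module.Basis (Fin n) Γ(X, U) Γ(A, U)) {x : T}
    (hx : k x ∈ U) : ∃ j, t x ∈ genSet (π := π) (q := q) i (b j) := by
  have hhx : πA (h x) ∈ U := by rwa [← Scheme.Hom.comp_apply, hh]
  obtain ⟨j, -, hj⟩ := exists_mem_opn hGA b hU (h x) hhx
  haveI := hGA.epi
  have hloc := coe_locus_of_kerSub (univ hGA) (fun k => b (j k)) qA rfl
  have hj' : x ∈ h ⁻¹' basisSet (img qA fun k => b (j k)) := (Set.ext_iff.mp hloc (h x)).mp hj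
  rw [← basisSet_img_quotBC hh hGA.rank, ← basisSet_img_iso _ e, he, basisSet_img_quotBC ht hG.rank] at hj'
  refine ⟨j 0, ?_⟩
  rw [show (fun k => b (j k)) = fun _ : Fin 1 => b (j 0) from funext fun k => by rw [Subsingleton.elim k 0]] at hj'
  exact hj'

include hG in
theorem isCompact_genSet [E.IsQuasicoherent] {U : X.Opens} (hU : IsAffineOpen U) (a : Γ(A, U)) :
    IsCompact (genSet (π := π) (q := q) i a) := by
  haveI := hG.epi
  rw [genSet, img_map, ← coe_locus_of_kerSub (univ hG) (fun _ : Fin 1 => i.app U a) q rfl]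
  exact (range_chartMor hG hU fun _ : Fin 1 => i.app U a) ▸ isCompact_range (chartMor hG hU _).continuous

include hG hGA in
/-- The complement of the sub-bundle is quasi-compact over the base. -/
theorem quasiCompact_compl [A.IsQuasicoherent] [E.IsQuasicoherent] (hA : FlatMod.IsFinLocFree A)
    (hip : i ≫ p = 0) (c : PB ⟶ P) (hc : c ≫ π = πB)
    (ec : (Scheme.Modules.pullback c).obj O1 ≅ Lb)
    (hcq : Grass.quotBC hc q ≫ ec.hom = (Scheme.Modules.pullback πB).map p ≫ qB)
    (W : P.Opens) (hW : (W : Set P)ᶜ = Set.range c) (β : (W : Scheme.{u}) ⟶ PA) (hβ : β ≫ πA = W.ι ≫ π)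
    (eβ : (Scheme.Modules.pullback β).obj La ≅ (Scheme.Modules.pullback W.ι).obj O1)
    (he : Grass.quotBC hβ qA ≫ eβ.hom = Grass.quotBC rfl ((Scheme.Modules.pullback π).map i ≫ q)) :
    QuasiCompact (W.ι ≫ π) := by
  choose U n hU hxU b using exists_basis_of_isFinLocFree hA
  refine IsZariskiLocalAtTarget.of_iSup_eq_top (P := @QuasiCompact) U
    (top_le_iff.mp fun x _ => Opens.mem_iSup.mpr ⟨x, hxU x⟩) fun x => ?_
  haveI : IsAffine (U x : Scheme.{u}) := hU x
  rw [HasAffineProperty.iff_of_isAffine (P := @QuasiCompact)]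
  refine isCompact_iff_compactSpace.mp ?_
  obtain ⟨bx⟩ := b x
  have e : W.ι '' ((W.ι ≫ π) ⁻¹ᵁ U x : Set (W : Scheme.{u})) = ⋃ j, genSet (π := π) (q := q) i (bx j) := by
    ext y
    constructor
    · rintro ⟨w, hw, rfl⟩
      obtain ⟨j, hj⟩ := exists_mem_genSet i hG hGA W.ι rfl β hβ eβ he (hU x) bx hw
      exact Set.mem_iUnion.2 ⟨j, hj⟩
    · intro hy
      obtain ⟨j, hj⟩ := Set.mem_iUnion.1 hy
      have hW' : y ∈ W := by
        by_contra hn
        exact not_mem_range_of_mem_genSet i p hG c hc ec hcq hip _ hj (hW ▸ hn)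
      exact ⟨⟨y, hW'⟩, hj.1, rfl⟩
  show IsCompact ((W.ι ≫ π) ⁻¹ᵁ U x : Set (W : Scheme.{u}))
  rw [W.ι.isOpenEmbedding.toIsInducing.isCompact_iff, e]
  exact isCompact_iUnion fun j => isCompact_genSet i hG (hU x) _

end Groth.Agent.Pos60.Split
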