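import Groth.Agent.Pos60.Split.Rel
import Groth.Agent.Pos60.Split.Locus
import Groth.Agent.Cyc90.Dev.SpecPoint
import Groth.Agent.An92.Ample.Inverse
import Groth.Agent.EGA73.Invertible
import Groth.Prelude.Def_ClSub2

/-!
The complement of a split sub-bundle is a vector bundle over the complementary bundle.
-/

set_option autoImplicit false
set_option backward.isDefEq.respectTransparency.types false

universe u

open CategoryTheory CategoryTheory.Limits AlgebraicGeometry TopologicalSpace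

noncomputable section

namespace Groth.Agent.Pos60.Split

open Grass5.QuotBC

theorem isInvertible_of_rank_one {X : Scheme.{u}} {L : X.Modules} (h : FlatMod.IsFinLocFreeOfRank 1 L) :
    PicF.IsInvertible L := fun x => by
  obtain ⟨U, hx, ⟨φ⟩⟩ := h x
  exact ⟨U, hx, ⟨φ ≪≫ coproductUniqueIso fun _ : Fin 1 => Coh.structureModule (↑U : Scheme.{u})⟩⟩

theorem isInvertible_of_isInverseOf {X : Scheme.{u}} {M L : X.Modules} (h : ClSub.IsInverseOf M L)
    (hL : PicF.IsInvertible L) : PicF.IsInvertible M := by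
  obtain ⟨ε₀⟩ := h
  obtain ⟨I, hI, ⟨ε⟩⟩ := An92.InvMod.exists_inverse hL
  exact EGA73.isInvertible_of_iso ((EGA73.tensUnitLeft I).symm ≪≫ EGA73.tensIso ε₀.symm (Iso.refl I) ≪≫
    EGA73.tensAssoc' M L I ≪≫ EGA73.tensIso (Iso.refl M) (EGA73.tensComm L I ≪≫ ε) ≪≫ EGA73.tensUnitRight M) hI

theorem quotBC_precomp {X G T : Scheme.{u}} {π : G ⟶ X} {g : T ⟶ X} {h : T ⟶ G} (hg : h ≫ π = g)
    {E E' : X.Modules} (f : E' ⟶ E) {Q : G.Modules} (q : (Scheme.Modules.pullback π).obj E ⟶ Q) :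
    Grass.quotBC hg ((Scheme.Modules.pullback π).map f ≫ q) =
      (Scheme.Modules.pullback g).map f ≫ Grass.quotBC hg q := by
  subst hg
  have n := (Scheme.Modules.pullbackComp h π).inv.naturality f
  simp only [Functor.comp_map] at n
  simp [Grass.quotBC, Scheme.Modules.pullbackCongr, reassoc_of% n]

/-- Comparing quotients over equal morphisms. -/
theorem quotBC_transport {X G G' T : Scheme.{u}} {π : G ⟶ X} {π' : G' ⟶ X} {h : T ⟶ G} {h' : T ⟶ G'}
    {k k' : T ⟶ X} (e1 : h ≫ π = k) (e2 : h' ≫ π' = k) (e1' : h ≫ π = k') (e2' : h' ≫ π' = k') {E : X.Modules}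
    {Q : G.Modules} {Q' : G'.Modules} (q : (Scheme.Modules.pullback π).obj E ⟶ Q)
    (q' : (Scheme.Modules.pullback π').obj E ⟶ Q')
    (e : (Scheme.Modules.pullback h).obj Q ⟶ (Scheme.Modules.pullback h').obj Q')
    (he : Grass.quotBC e1 q ≫ e = Grass.quotBC e2 q') : Grass.quotBC e1' q ≫ e = Grass.quotBC e2' q' := by
  obtain rfl : k = k' := e1.symm.trans e1'
  exact he

variable {X P Z : Scheme.{u}} {π : P ⟶ X} {A E B : X.Modules} (D : Splitting A E B) {O1 : P.Modules}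
  {q : (Scheme.Modules.pullback π).obj E ⟶ O1} {πA : Z ⟶ X} {La : Z.Modules}
  {qA : (Scheme.Modules.pullback πA).obj A ⟶ La}

theorem map_i_sMap {T : Scheme.{u}} (g : T ⟶ Z)
    (b : (Scheme.Modules.pullback g).obj ((Scheme.Modules.pullback πA).obj B) ⟶ (Scheme.Modules.pullback g).obj La) :
    (Scheme.Modules.pullback (g ≫ πA)).map D.i ≫ sMap D qA g b =
      Grass.quotBC (rfl : g ≫ πA = g ≫ πA) qA := by
  have n := (Scheme.Modules.pullbackComp g πA).inv.naturality D.i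
  rw [sMap, ← Category.assoc, n, Category.assoc, quotBC_rfl]
  exact congrArg (_ ≫ ·) (map_i_uMap D qA g b)

variable {Mi : Z.Modules} (ε : CohB1.tensorMod Mi La ≅ Coh.structureModule Z) (AV : RelSpec.QCAlg Z)
  (jV : CohB1.tensorMod Mi ((Scheme.Modules.pullback πA).obj B) ⟶ AV.toModule)

/-- The universal linear form. -/
def univForm : CohB1.tensorMod Mi ((Scheme.Modules.pullback πA).obj B) ⟶
    (Scheme.Modules.pushforward AV.π).obj (Coh.structureModule AV.spec) :=
  Cyc90.Dev.genHom AV jV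

/-- Inverse image of a linear form. -/
def pullForm {B' : Z.Modules} {T T' : Scheme.{u}} (g : T ⟶ Z) (h : T' ⟶ T)
    (χ : CohB1.tensorMod Mi B' ⟶ (Scheme.Modules.pushforward g).obj (Coh.structureModule T)) :
    CohB1.tensorMod Mi B' ⟶ (Scheme.Modules.pushforward (h ≫ g)).obj (Coh.structureModule T') :=
  χ ≫ (Scheme.Modules.pushforward g).map (SheafOfModules.unitToPushforwardObjUnit h.toRingCatSheafHom) ≫
    (Scheme.Modules.pushforwardComp h g).hom.app _

theorem val'_pullForm {B' : Z.Modules} {T T' : Scheme.{u}} (g : T ⟶ Z) (h : T' ⟶ T)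
    (χ : CohB1.tensorMod Mi B' ⟶ (Scheme.Modules.pushforward g).obj (Coh.structureModule T)) (V : Z.Opens)
    (x : Γ(CohB1.tensorMod Mi B', V)) :
    val' (h ≫ g) (pullForm g h χ) V x = h.app (g ⁻¹ᵁ V) (val' g χ V x) := rfl

variable (hG : Grass.IsGrass π E 1 O1 q) (hLa : FlatMod.IsFinLocFreeOfRank 1 La) [Epi qA]
  {bV : (Scheme.Modules.pullback AV.π).obj ((Scheme.Modules.pullback πA).obj B) ⟶
    (Scheme.Modules.pullback AV.π).obj La}
  (hbV : Rel ε AV.π (univForm AV jV) bV)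

include hbV in
theorem exists_data {T : Scheme.{u}} (g : T ⟶ Z) (h : T ⟶ AV.spec) (w : h ≫ AV.π = g) :
    ∃ (χ : CohB1.tensorMod Mi ((Scheme.Modules.pullback πA).obj B) ⟶
        (Scheme.Modules.pushforward g).obj (Coh.structureModule T))
      (b : (Scheme.Modules.pullback g).obj ((Scheme.Modules.pullback πA).obj B) ⟶ (Scheme.Modules.pullback g).obj La),
      Rel ε g χ b ∧ h ≫ point D qA AV.π bV hG hLa = point D qA g b hG hLa ∧
      ∀ U e, h.appLE (AV.π ⁻¹ᵁ U) (g ⁻¹ᵁ U) (Cyc90.Dev.preimage_le_of_comp w U)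
        ((Cyc90.Dev.genHom AV jV).app U e) = val' g χ U e := by
  subst w
  refine ⟨pullForm AV.π h (univForm AV jV), pullB AV.π bV h, hbV.comp AV.π h (val'_pullForm AV.π h _),
    comp_point D qA AV.π bV hG hLa h, fun U e => ?_⟩
  rw [val'_pullForm, Scheme.Hom.app_eq_appLE]
  rfl

variable (hA : RelSpec.IsSymAlg (CohB1.tensorMod Mi ((Scheme.Modules.pullback πA).obj B)) AV jV)
  (hMi : PicF.IsInvertible Mi)

include hbV hA hMi in
theorem hom_ext_of_point {T : Scheme.{u}} (g : T ⟶ Z) [QuasiCompact g] [QuasiSeparated g] {h h' : T ⟶ AV.spec}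
    (w : h ≫ AV.π = g) (w' : h' ≫ AV.π = g)
    (hp : h ≫ point D qA AV.π bV hG hLa = h' ≫ point D qA AV.π bV hG hLa) : h = h' := by
  obtain ⟨χ, b, hr, hb, hv⟩ := exists_data D (qA := qA) ε AV jV hG hLa hbV g h w
  obtain ⟨χ', b', hr', hb', hv'⟩ := exists_data D (qA := qA) ε AV jV hG hLa hbV g h' w'
  obtain rfl : b = b' := point_injective D qA g b hG hLa b' (hb.symm.trans (hp.trans hb'))
  obtain rfl : χ = χ' := Rel.unique_χ g hMi (isInvertible_of_rank_one hLa) hr hr'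
  exact Cyc90.Dev.symPoint_ext AV hA g w w' fun U e => (hv U e).trans (hv' U e).symm

include hbV hA hMi in
theorem exists_hom {T : Scheme.{u}} (g : T ⟶ Z) [QuasiCompact g] [QuasiSeparated g]
    (b : (Scheme.Modules.pullback g).obj ((Scheme.Modules.pullback πA).obj B) ⟶ (Scheme.Modules.pullback g).obj La) :
    ∃ h : T ⟶ AV.spec, h ≫ AV.π = g ∧ h ≫ point D qA AV.π bV hG hLa = point D qA g b hG hLa := by
  have hLi := isInvertible_of_rank_one hLa
  obtain ⟨χ, hr⟩ := exists_χ g hMi hLi (ε := ε) b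
  obtain ⟨h, w, hh⟩ := Cyc90.Dev.exists_symPoint AV hA g χ
  obtain ⟨χ', b', hr', hb', hv⟩ := exists_data D (qA := qA) ε AV jV hG hLa hbV g h w
  obtain rfl : χ = χ' := by
    refine Scheme.Modules.hom_ext _ _ fun U => ?_
    ext e
    exact (hh U e).symm.trans (hv U e)
  obtain rfl : b = b' := Rel.unique_b g hMi hLi hr hr'
  exact ⟨h, w, hb'⟩

omit D in
theorem exists_iso_compl_subbundle
    (X P PB PA : Scheme.{u}) (S : ShortComplex X.Modules) (hS : S.ShortExact)
    (hA : FlatMod.IsFinLocFree S.X₁) (hE : FlatMod.IsFinLocFree S.X₂)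
    (σ : S.X₂ ⟶ S.X₁) (hσ : S.f ≫ σ = 𝟙 S.X₁)
    (π : P ⟶ X) (O1 : P.Modules) (q : (Scheme.Modules.pullback π).obj S.X₂ ⟶ O1)
    (hP : KRR.IsProjBundle π S.X₂ O1 q)
    (πB : PB ⟶ X) (O1B : PB.Modules) (qB : (Scheme.Modules.pullback πB).obj S.X₃ ⟶ O1B)
    (πA : PA ⟶ X) (O1A : PA.Modules) (qA : (Scheme.Modules.pullback πA).obj S.X₁ ⟶ O1A)
    (hPA : KRR.IsProjBundle πA S.X₁ O1A qA)
    (c : PB ⟶ P) (hc : c ≫ π = πB) (ec : (Scheme.Modules.pullback c).obj O1 ≅ O1B)
    (hcq : Grass.quotBC hc q ≫ ec.hom = (Scheme.Modules.pullback πB).map S.g ≫ qB)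
    (W : P.Opens) (hW : (W : Set P)ᶜ = Set.range c.base)
    (β : (W : Scheme.{u}) ⟶ PA) (hβ : β ≫ πA = W.ι ≫ π)
    (eβ : (Scheme.Modules.pullback β).obj O1A ≅ (Scheme.Modules.pullback W.ι).obj O1)
    (hβq : Grass.quotBC hβ qA ≫ eβ.hom =
      Grass.quotBC rfl ((Scheme.Modules.pullback π).map S.f ≫ q))
    (Minv : PA.Modules) (hMinv : ClSub.IsInverseOf Minv O1A)
    (AV : RelSpec.QCAlg PA) (jV : CohB1.tensorMod Minv ((Scheme.Modules.pullback πA).obj S.X₃) ⟶ AV.toModule)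
    (hAV : RelSpec.IsSymAlg (CohB1.tensorMod Minv ((Scheme.Modules.pullback πA).obj S.X₃)) AV jV) :
    ∃ e : (W : Scheme.{u}) ≅ AV.spec, e.hom ≫ AV.π = β := by
  haveI := hS.epi_g
  let spl := ShortComplex.Splitting.ofExactOfRetraction S hS.exact σ hσ hS.epi_g
  let D : Splitting S.X₁ S.X₂ S.X₃ :=
    ⟨S.f, S.g, spl.r, spl.s, spl.f_r, spl.s_g, S.zero, spl.s_r, spl.id⟩
  have hG : Grass.IsGrass π S.X₂ 1 O1 q := Grass.isGrass_one_iff.2 hP
  have hGA : Grass.IsGrass πA S.X₁ 1 O1A qA := Grass.isGrass_one_iff.2 hPA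
  haveI : S.X₁.IsQuasicoherent := Props58.LocFree.isQuasicoherent_of_isFinLocFree hA
  haveI : S.X₂.IsQuasicoherent := Props58.LocFree.isQuasicoherent_of_isFinLocFree hE
  haveI := hPA.epi
  haveI := Grass5.GrSep.isSeparated hG
  haveI := Grass5.GrSep.isSeparated hGA
  haveI : QuasiCompact (β ≫ πA) :=
    hβ ▸ quasiCompact_compl S.f S.g hG hGA hA S.zero c hc ec hcq W hW β hβ eβ hβq
  haveI : IsSeparated (β ≫ πA) := by rw [hβ]; infer_instance
  haveI : IsSeparated β := IsSeparated.of_comp β πA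
  haveI : QuasiCompact β := QuasiCompact.of_comp β πA
  have hLa : FlatMod.IsFinLocFreeOfRank 1 O1A := hPA.invertible
  have hLi := isInvertible_of_rank_one hLa
  have hMi := isInvertible_of_isInverseOf hMinv hLi
  obtain ⟨ε⟩ := hMinv
  obtain ⟨bV, hbV⟩ := exists_b AV.π hMi hLi (ε := ε) (univForm AV jV)
  let t := point D qA AV.π bV hG hLa
  obtain ⟨et, het⟩ := exists_iso_point D qA AV.π bV hG hLa
  have htq : Grass.quotBC (rfl : AV.π ≫ πA = AV.π ≫ πA) qA ≫ et.symm.hom =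
      Grass.quotBC (point_comp D qA AV.π bV hG hLa) ((Scheme.Modules.pullback π).map S.f ≫ q) := by
    rw [quotBC_precomp, Iso.symm_hom, Iso.comp_inv_eq, Category.assoc, het]
    exact (map_i_sMap D AV.π bV).symm
  have hrange : ∀ x, t x ∈ W := fun x => by
    by_contra hn
    obtain ⟨U, n, hU, hxU, ⟨b⟩⟩ := exists_basis_of_isFinLocFree hA ((AV.π ≫ πA) x)
    obtain ⟨j, hj⟩ := exists_mem_genSet S.f hG hGA t (point_comp D qA AV.π bV hG hLa) AV.π rfl et.symm htq hU b hxU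
    exact not_mem_range_of_mem_genSet S.f S.g hG c hc ec hcq S.zero _ hj (hW ▸ hn)
  let t' : AV.spec ⟶ (W : Scheme.{u}) :=
    IsOpenImmersion.lift W.ι t (by rw [Scheme.Opens.range_ι]; rintro _ ⟨x, rfl⟩; exact hrange x)
  have ht' : t' ≫ W.ι = t := IsOpenImmersion.lift_fac _ _ _
  -- the inclusion of `W` is a point
  have h0 : (Scheme.Modules.pullback (β ≫ πA)).map D.i ≫ (Grass.quotBC hβ.symm q ≫ eβ.inv) =
      (Scheme.Modules.pullbackComp β πA).inv.app _ ≫ (Scheme.Modules.pullback β).map qA := by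
    rw [← Category.assoc, ← quotBC_precomp, Iso.comp_inv_eq, ← quotBC_rfl]
    exact (quotBC_transport hβ rfl rfl hβ.symm qA _ eβ.hom hβq).symm
  obtain ⟨bW, hbW⟩ := exists_sMap_eq D qA β h0
  have hι : W.ι = point D qA β bW hG hLa := point_unique D qA β bW hG hLa W.ι hβ.symm eβ.symm hbW.symm
  obtain ⟨e, he, het'⟩ := exists_hom D (qA := qA) ε AV jV hG hLa hbV hAV hMi β bW
  have e1 : e ≫ t' = 𝟙 _ := by
    rw [← cancel_mono W.ι, Category.assoc, ht', Category.id_comp, hι]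
    exact het'
  -- the projection of the bundle onto `PA`
  have hp : t' ≫ β = AV.π := by
    have hk : (t' ≫ β) ≫ πA = AV.π ≫ πA := by
      rw [Category.assoc, hβ, ← Category.assoc, ht']
      exact point_comp D qA AV.π bV hG hLa
    have hgk : t' ≫ (W.ι ≫ π) = AV.π ≫ πA := by rw [← hβ, ← Category.assoc, hk]
    have hgι : (t' ≫ W.ι) ≫ π = AV.π ≫ πA := by rw [Category.assoc]; exact hgk
    have h1 := exists_iso_comp hβ hgk hk qA _ eβ hβq
    rw [quotBC_comp (rfl : W.ι ≫ π = W.ι ≫ π) hgk hgι] at h1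
    have h2 : Grass.quotBC hk qA ≫ ((((Scheme.Modules.pullbackComp t' β).symm.app O1A ≪≫
        (Scheme.Modules.pullback t').mapIso eβ) ≪≫ (Scheme.Modules.pullbackComp t' W.ι).app O1) ≪≫
        (Scheme.Modules.pullbackCongr ht').app O1).hom =
        Grass.quotBC (point_comp D qA AV.π bV hG hLa) ((Scheme.Modules.pullback π).map S.f ≫ q) := by
      rw [Iso.trans_hom, Iso.trans_hom, ← Category.assoc, ← Category.assoc, h1, Category.assoc (Grass.quotBC hgι _),
        Iso.app_hom, Iso.inv_hom_id_app, Category.comp_id,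
        quotBC_id_iso ht' hgι (point_comp D qA AV.π bV hG hLa)]
    rw [← htq, ← Iso.comp_inv_eq] at h2
    exact (hPA.univ AV.spec (AV.π ≫ πA) _ (isFinLocFreeOfRank_pullback AV.π hLa) (Grass.quotBC rfl qA)
      (epi_quotBC _ _)).unique
      ⟨hk, (((((Scheme.Modules.pullbackComp t' β).symm.app O1A ≪≫
        (Scheme.Modules.pullback t').mapIso eβ) ≪≫ (Scheme.Modules.pullbackComp t' W.ι).app O1) ≪≫
        (Scheme.Modules.pullbackCongr ht').app O1)) ≪≫ et, by
          simpa [Grass.quotBC] using h2⟩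
      ⟨rfl, Iso.refl _, by simp [Grass.quotBC]⟩
  have e2 : t' ≫ e = 𝟙 _ := by
    refine hom_ext_of_point D (qA := qA) ε AV jV hG hLa hbV hAV hMi AV.π (by rw [Category.assoc, he, hp])
      (Category.id_comp _) ?_
    rw [Category.assoc, het', ← hι, ht', Category.id_comp]
  exact ⟨⟨e, t', e1, e2⟩, he⟩

end Groth.Agent.Pos60.Split
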