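import Groth.Prelude.Def_KRR
import Groth.Prelude.Def_FlatMod2
import Groth.Agent.Grass5.QuotBC
import Groth.Agent.Grass5.FlagStep

/-!
Points of a projective bundle of a split extension coming from linear data.
-/

set_option autoImplicit false
set_option backward.isDefEq.respectTransparency.types false

universe u

open CategoryTheory CategoryTheory.Limits AlgebraicGeometry

noncomputable section

namespace Groth.Agent.Pos60.Split

open Grass5.QuotBC

/-- A split extension. -/
structure Splitting {X : Scheme.{u}} (A E B : X.Modules) where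
  i : A ⟶ E
  p : E ⟶ B
  ret : E ⟶ A
  sec : B ⟶ E
  i_ret : i ≫ ret = 𝟙 A
  sec_p : sec ≫ p = 𝟙 B
  i_p : i ≫ p = 0
  sec_ret : sec ≫ ret = 0
  id : ret ≫ i + p ≫ sec = 𝟙 E

variable {X P Z : Scheme.{u}} {π : P ⟶ X} {A E B : X.Modules} (D : Splitting A E B) {O1 : P.Modules}
  {q : (Scheme.Modules.pullback π).obj E ⟶ O1} {πA : Z ⟶ X} {La : Z.Modules}
  (qA : (Scheme.Modules.pullback πA).obj A ⟶ La)

variable {T : Scheme.{u}} (g : T ⟶ Z)
  (b : (Scheme.Modules.pullback g).obj ((Scheme.Modules.pullback πA).obj B) ⟶ (Scheme.Modules.pullback g).obj La)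

/-- The quotient of the inverse image of `E` attached to `b`. -/
def uMap : (Scheme.Modules.pullback g).obj ((Scheme.Modules.pullback πA).obj E) ⟶ (Scheme.Modules.pullback g).obj La :=
  (Scheme.Modules.pullback g).map ((Scheme.Modules.pullback πA).map D.ret ≫ qA) +
    (Scheme.Modules.pullback g).map ((Scheme.Modules.pullback πA).map D.p) ≫ b

/-- The same, on the base. -/
def sMap : (Scheme.Modules.pullback (g ≫ πA)).obj E ⟶ (Scheme.Modules.pullback g).obj La :=
  (Scheme.Modules.pullbackComp g πA).inv.app E ≫ uMap D qA g b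

theorem map_i_uMap : (Scheme.Modules.pullback g).map ((Scheme.Modules.pullback πA).map D.i) ≫ uMap D qA g b =
    (Scheme.Modules.pullback g).map qA := by
  rw [uMap, Preadditive.comp_add, ← Functor.map_comp, ← Category.assoc ((Scheme.Modules.pullback g).map _),
    ← Functor.map_comp, ← Category.assoc ((Scheme.Modules.pullback πA).map _), ← Functor.map_comp, ← Functor.map_comp,
    D.i_ret, D.i_p]
  simp

theorem map_sec_uMap : (Scheme.Modules.pullback g).map ((Scheme.Modules.pullback πA).map D.sec) ≫ uMap D qA g b =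
    b := by
  rw [uMap, Preadditive.comp_add, ← Functor.map_comp, ← Category.assoc ((Scheme.Modules.pullback g).map _),
    ← Functor.map_comp, ← Category.assoc ((Scheme.Modules.pullback πA).map _), ← Functor.map_comp, ← Functor.map_comp,
    D.sec_ret, D.sec_p]
  simp

theorem epi_sMap [Epi qA] : Epi (sMap D qA g b) := by
  haveI := Grass.epi_pullback_map g qA
  haveI : Epi ((Scheme.Modules.pullback g).map ((Scheme.Modules.pullback πA).map D.i) ≫ uMap D qA g b) := by
    rw [map_i_uMap]; infer_instance
  haveI : Epi (uMap D qA g b) := epi_of_epi ((Scheme.Modules.pullback g).map ((Scheme.Modules.pullback πA).map D.i)) _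
  unfold sMap
  infer_instance

variable (hG : Grass.IsGrass π E 1 O1 q) (hLa : FlatMod.IsFinLocFreeOfRank 1 La) [Epi qA]

/-- The point of the bundle attached to `b`. -/
def point : T ⟶ P :=
  hG.lift (g ≫ πA) ((Scheme.Modules.pullback g).obj La) (isFinLocFreeOfRank_pullback g hLa) (sMap D qA g b)
    (epi_sMap D qA g b)

theorem point_comp : point D qA g b hG hLa ≫ π = g ≫ πA :=
  hG.lift_comp _ _ _ _ _

theorem exists_iso_point : ∃ e : (Scheme.Modules.pullback (point D qA g b hG hLa)).obj O1 ≅
    (Scheme.Modules.pullback g).obj La, Grass.quotBC (point_comp D qA g b hG hLa) q ≫ e.hom = sMap D qA g b :=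
  ⟨_, hG.quotBC_liftIso _ _ _ _ _⟩

theorem point_unique (h : T ⟶ P) (hh : h ≫ π = g ≫ πA)
    (e : (Scheme.Modules.pullback h).obj O1 ≅ (Scheme.Modules.pullback g).obj La)
    (he : Grass.quotBC hh q ≫ e.hom = sMap D qA g b) : h = point D qA g b hG hLa :=
  hG.lift_unique _ _ _ _ _ h hh e he

theorem point_injective
    (b' : (Scheme.Modules.pullback g).obj ((Scheme.Modules.pullback πA).obj B) ⟶ (Scheme.Modules.pullback g).obj La)
    (h : point D qA g b hG hLa = point D qA g b' hG hLa) : b = b' := by
  obtain ⟨e, he⟩ := exists_iso_point D qA g b hG hLa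
  obtain ⟨e', he'⟩ := exists_iso_point D qA g b' hG hLa
  let k := ((Scheme.Modules.pullbackCongr h).app O1).hom ≫ e'.hom
  have hk : Grass.quotBC (point_comp D qA g b hG hLa) q ≫ k = sMap D qA g b' := by
    rw [← he', ← Category.assoc, quotBC_id_iso h (point_comp D qA g b hG hLa) (point_comp D qA g b' hG hLa)]
  have hθ : sMap D qA g b ≫ (e.inv ≫ k) = sMap D qA g b' := by
    rw [← he, Category.assoc, Iso.hom_inv_id_assoc, hk]
  rw [sMap, sMap, Category.assoc, cancel_epi] at hθ
  have h1 : e.inv ≫ k = 𝟙 _ := by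
    haveI := Grass.epi_pullback_map g qA
    rw [← cancel_epi ((Scheme.Modules.pullback g).map qA)]
    conv_lhs => rw [← map_i_uMap D qA g b, Category.assoc, hθ, map_i_uMap]
    rw [Category.comp_id]
  rw [h1, Category.comp_id] at hθ
  rw [← map_sec_uMap D qA g b, hθ, map_sec_uMap]

/-- The inverse image of linear data. -/
def pullB {T' : Scheme.{u}} (h : T' ⟶ T) :
    (Scheme.Modules.pullback (h ≫ g)).obj ((Scheme.Modules.pullback πA).obj B) ⟶
      (Scheme.Modules.pullback (h ≫ g)).obj La :=
  (Scheme.Modules.pullbackComp h g).inv.app _ ≫ (Scheme.Modules.pullback h).map b ≫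
    (Scheme.Modules.pullbackComp h g).hom.app La

omit [Epi qA] in
theorem uMap_pull {T' : Scheme.{u}} (h : T' ⟶ T) :
    (Scheme.Modules.pullbackComp h g).inv.app ((Scheme.Modules.pullback πA).obj E) ≫
        (Scheme.Modules.pullback h).map (uMap D qA g b) ≫ (Scheme.Modules.pullbackComp h g).hom.app La =
      uMap D qA (h ≫ g) (pullB g b h) := by
  have n : ∀ {M N : Z.Modules} (φ : M ⟶ N), (Scheme.Modules.pullback (h ≫ g)).map φ ≫
      (Scheme.Modules.pullbackComp h g).inv.app N =
      (Scheme.Modules.pullbackComp h g).inv.app M ≫ (Scheme.Modules.pullback h).map ((Scheme.Modules.pullback g).map φ) :=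
    fun φ => (Scheme.Modules.pullbackComp h g).inv.naturality φ
  simp only [uMap, pullB, Functor.map_add, Preadditive.add_comp, Preadditive.comp_add]
  congr 1
  · rw [← Category.assoc, ← n, Category.assoc, Iso.inv_hom_id_app]
    exact Category.comp_id _
  · rw [Functor.map_comp, ← Category.assoc ((Scheme.Modules.pullback (h ≫ g)).map _), n]
    simp

theorem comp_point {T' : Scheme.{u}} (h : T' ⟶ T) :
    h ≫ point D qA g b hG hLa = point D qA (h ≫ g) (pullB g b h) hG hLa := by
  obtain ⟨e, he⟩ := exists_iso_point D qA g b hG hLa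
  have hg : h ≫ (g ≫ πA) = (h ≫ g) ≫ πA := (Category.assoc _ _ _).symm
  have hg' : (h ≫ point D qA g b hG hLa) ≫ π = (h ≫ g) ≫ πA := by
    rw [Category.assoc, point_comp, Category.assoc]
  have h1 := exists_iso_comp (point_comp D qA g b hG hLa) hg hg' q _ e he
  refine point_unique D qA (h ≫ g) (pullB g b h) hG hLa _ hg'
    ((((Scheme.Modules.pullbackComp h (point D qA g b hG hLa)).symm.app O1 ≪≫
      (Scheme.Modules.pullback h).mapIso e)) ≪≫ (Scheme.Modules.pullbackComp h g).app La) ?_
  rw [Iso.trans_hom, ← Category.assoc, h1]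
  have hk : Grass.quotBC (rfl : g ≫ πA = g ≫ πA) (𝟙 ((Scheme.Modules.pullback πA).obj E)) =
      (Scheme.Modules.pullbackComp g πA).inv.app E := by
    rw [quotBC_rfl, CategoryTheory.Functor.map_id]
    exact Category.comp_id _
  have h2 : Grass.quotBC hg ((Scheme.Modules.pullbackComp g πA).inv.app E) =
      (Scheme.Modules.pullbackComp (h ≫ g) πA).inv.app E ≫
        (Scheme.Modules.pullbackComp h g).inv.app ((Scheme.Modules.pullback πA).obj E) := by
    rw [← hk]
    refine (quotBC_comp (rfl : g ≫ πA = g ≫ πA) hg (rfl : (h ≫ g) ≫ πA = (h ≫ g) ≫ πA) _).trans ?_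
    congr 1
    rw [quotBC_rfl, CategoryTheory.Functor.map_id]
    exact Category.comp_id _
  rw [sMap, quotBC_postcomp, h2, sMap, ← uMap_pull]
  simp

omit [Epi qA] in
/-- Linear data recovered from a point. -/
theorem exists_sMap_eq {t : (Scheme.Modules.pullback (g ≫ πA)).obj E ⟶ (Scheme.Modules.pullback g).obj La}
    (ht : (Scheme.Modules.pullback (g ≫ πA)).map D.i ≫ t =
      (Scheme.Modules.pullbackComp g πA).inv.app A ≫ (Scheme.Modules.pullback g).map qA) :
    ∃ b, sMap D qA g b = t := by
  have n : ∀ {M N : X.Modules} (φ : M ⟶ N), (Scheme.Modules.pullback g).map ((Scheme.Modules.pullback πA).map φ) ≫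
      (Scheme.Modules.pullbackComp g πA).hom.app N =
      (Scheme.Modules.pullbackComp g πA).hom.app M ≫ (Scheme.Modules.pullback (g ≫ πA)).map φ :=
    fun φ => (Scheme.Modules.pullbackComp g πA).hom.naturality φ
  refine ⟨(Scheme.Modules.pullback g).map ((Scheme.Modules.pullback πA).map D.sec) ≫
    (Scheme.Modules.pullbackComp g πA).hom.app E ≫ t, ?_⟩
  have hA : (Scheme.Modules.pullback g).map qA = (Scheme.Modules.pullback g).map ((Scheme.Modules.pullback πA).map D.i) ≫
      (Scheme.Modules.pullbackComp g πA).hom.app E ≫ t := by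
    rw [← Category.assoc, n, Category.assoc, ht, Iso.hom_inv_id_app_assoc]
  rw [sMap, uMap, Functor.map_comp, hA, ← Category.assoc, ← Functor.map_comp, ← Functor.map_comp,
    ← Category.assoc ((Scheme.Modules.pullback g).map ((Scheme.Modules.pullback πA).map D.p)),
    ← Functor.map_comp, ← Functor.map_comp, ← Preadditive.add_comp, ← Functor.map_add, ← Functor.map_add, D.id]
  simp

end Groth.Agent.Pos60.Split
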