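import Groth.Agent.Pos60.Split.Glue
import Groth.Agent.Amp73.PullTensor
import Groth.Agent.GRec72.Tensor
import Groth.Agent.Props58.PullTensor

/-!
Linear forms on `M ⊗ B` over a scheme `T` and morphisms `g^* B → g^* L`, for mutually inverse invertible `M`, `L`.
-/

set_option autoImplicit false
set_option backward.isDefEq.respectTransparency.types false

universe u

open CategoryTheory AlgebraicGeometry TopologicalSpace Opposite

noncomputable section

namespace Groth.Agent.Pos60.Split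

open Var76.LineBundle Var76.ZeroScheme Amp73

variable {Z T : Scheme.{u}} (Mi La B : Z.Modules) (ε : CohB1.tensorMod Mi La ≅ Coh.structureModule Z)

/-- Mutually dual frames. -/
structure IsPair (V : Z.Opens) (m : Γ(Mi, V)) (a : Γ(La, V)) : Prop where
  frameL : IsFrame La V a
  frameM : IsFrame Mi V m
  eq_one : ε.hom.app V (tm Mi La m a) = ((1 : Γ(Z, V)) : Γ(Coh.structureModule Z, V))

variable {Mi La B ε}

theorem IsPair.res {V W : Z.Opens} {m : Γ(Mi, V)} {a : Γ(La, V)} (h : IsPair Mi La ε V m a) (hW : W ≤ V) :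
    IsPair Mi La ε W (Var76.LineBundle.res Mi hW m) (Var76.LineBundle.res La hW a) := by
  refine ⟨h.frameL.res hW, h.frameM.res hW, ?_⟩
  rw [← res_tm, Mero90.app_res, h.eq_one]
  exact map_one (Z.presheaf.map (homOfLE hW).op).hom

variable (ε) in
theorem exists_pair (hMi : PicF.IsInvertible Mi) (hLa : PicF.IsInvertible La) (U : Z.Opens) {p : Z}
    (hp : p ∈ U) : ∃ (V : Z.Opens) (_ : V ≤ U), p ∈ V ∧ ∃ m a, IsPair Mi La ε V m a := by
  obtain ⟨W, hpW, hW, a, ha⟩ := Mero90.exists_affine_frame hLa p U hp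
  obtain ⟨W', hpW', hW', f, hf⟩ := Mero90.exists_affine_frame hMi p W.1 hpW
  have hx : IsFrame (Coh.structureModule Z) W'.1 (ε.hom.app W'.1 (tm Mi La f (Var76.LineBundle.res La hW' a))) :=
    (isFrame_app_iff ε.hom _).2 (isFrame_tm hf (ha.res hW'))
  set x := ε.hom.app W'.1 (tm Mi La f (Var76.LineBundle.res La hW' a)) with hxdef
  obtain ⟨d, hd⟩ := (hx W'.1 le_rfl).2 ((1 : Γ(Z, W'.1)) : Γ(Coh.structureModule Z, W'.1))
  dsimp only at hd
  rw [res_self] at hd
  have hd' : d * (show Γ(Z, W'.1) from x) = 1 := hd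
  refine ⟨W'.1, hW'.trans hW, hpW', d • f, _, ha.res hW', ?_, ?_⟩
  · exact (isFrame_smul_iff hf d).2 (IsUnit.of_mul_eq_one _ hd')
  · rw [tm_smul_left, Scheme.Modules.Hom.app_smul]
    exact hd

theorem IsPair.exists_change {V : Z.Opens} {m m' : Γ(Mi, V)} {a a' : Γ(La, V)} (h : IsPair Mi La ε V m a)
    (h' : IsPair Mi La ε V m' a') : ∃ v w : Γ(Z, V), m' = v • m ∧ a' = w • a ∧ v * w = 1 := by
  obtain ⟨v, hv⟩ := (h.frameM V le_rfl).2 m'
  obtain ⟨w, hw⟩ := (h.frameL V le_rfl).2 a'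
  dsimp only at hv hw
  rw [res_self] at hv hw
  refine ⟨v, w, hv.symm, hw.symm, ?_⟩
  have h1 := h'.eq_one
  rw [← hv, ← hw, tm_smul_left, tm_smul_right, smul_smul, Scheme.Modules.Hom.app_smul, h.eq_one] at h1
  exact (mul_one (v * w)).symm.trans h1

variable (g : T ⟶ Z)

/-- The values of a linear form. -/
def val' (χ : CohB1.tensorMod Mi B ⟶ (Scheme.Modules.pushforward g).obj (Coh.structureModule T)) (V : Z.Opens)
    (x : Γ(CohB1.tensorMod Mi B, V)) : Γ(T, g ⁻¹ᵁ V) :=
  χ.app V x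

theorem val'_smul (χ : CohB1.tensorMod Mi B ⟶ (Scheme.Modules.pushforward g).obj (Coh.structureModule T))
    (V : Z.Opens) (r : Γ(Z, V)) (x : Γ(CohB1.tensorMod Mi B, V)) :
    val' g χ V (r • x) = g.app V r * val' g χ V x :=
  Scheme.Modules.Hom.app_smul χ r x

theorem val'_res (χ : CohB1.tensorMod Mi B ⟶ (Scheme.Modules.pushforward g).obj (Coh.structureModule T))
    {V W : Z.Opens} (hW : W ≤ V) (x : Γ(CohB1.tensorMod Mi B, V)) :
    val' g χ W (res _ hW x) = T.presheaf.map (homOfLE (g.preimage_mono hW)).op (val' g χ V x) :=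
  Mero90.app_res χ hW x

theorem val'_add (χ : CohB1.tensorMod Mi B ⟶ (Scheme.Modules.pushforward g).obj (Coh.structureModule T))
    (V : Z.Opens) (x y : Γ(CohB1.tensorMod Mi B, V)) :
    val' g χ V (x + y) = val' g χ V x + val' g χ V y :=
  map_add (χ.app V).hom x y

variable (ε) in
/-- A linear form on `M ⊗ B` and a morphism `g^* B → g^* L` correspond. -/
def Rel (χ : CohB1.tensorMod Mi B ⟶ (Scheme.Modules.pushforward g).obj (Coh.structureModule T))
    (b : (Scheme.Modules.pullback g).obj B ⟶ (Scheme.Modules.pullback g).obj La) : Prop :=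
  ∀ (V : Z.Opens) (m : Γ(Mi, V)) (a : Γ(La, V)), IsPair Mi La ε V m a → ∀ β : Γ(B, V),
    b.app (g ⁻¹ᵁ V) (pullS g B V β) = val' g χ V (tm Mi B m β) • pullS g La V a

theorem pullback_hom_ext {N : T.Modules} {M : Z.Modules} {b b' : (Scheme.Modules.pullback g).obj M ⟶ N}
    (h : ∀ (U : Z.Opens) (x : Γ(M, U)), b.app (g ⁻¹ᵁ U) (pullS g M U x) = b'.app (g ⁻¹ᵁ U) (pullS g M U x)) :
    b = b' := by
  apply ((Scheme.Modules.pullbackPushforwardAdjunction g).homEquiv _ _).injective
  rw [Adjunction.homEquiv_unit, Adjunction.homEquiv_unit]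
  ext U x
  exact h U x

variable (hMi : PicF.IsInvertible Mi) (hLa : PicF.IsInvertible La)
include hMi hLa

theorem Rel.unique_b {χ : CohB1.tensorMod Mi B ⟶ (Scheme.Modules.pushforward g).obj (Coh.structureModule T)}
    {b b' : (Scheme.Modules.pullback g).obj B ⟶ (Scheme.Modules.pullback g).obj La}
    (h : Rel ε g χ b) (h' : Rel ε g χ b') : b = b' := by
  refine pullback_hom_ext g fun U β => eq_of_locally _ _ _ fun t ht => ?_
  obtain ⟨V, hV, hgt, m, a, hp⟩ := exists_pair ε hMi hLa U (p := g t) ht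
  refine ⟨g ⁻¹ᵁ V, g.preimage_mono hV, hgt, ?_⟩
  rw [← Mero90.app_res, ← Mero90.app_res, res_pullS g B hV, h V m a hp, h' V m a hp]

theorem Rel.unique_χ {χ χ' : CohB1.tensorMod Mi B ⟶ (Scheme.Modules.pushforward g).obj (Coh.structureModule T)}
    {b : (Scheme.Modules.pullback g).obj B ⟶ (Scheme.Modules.pullback g).obj La}
    (h : Rel ε g χ b) (h' : Rel ε g χ' b) : χ = χ' := by
  refine GRec72.hom_ext_tmul fun U μ β => eq_of_locally _ _ _ fun p hp => ?_
  obtain ⟨V, hV, hpV, m, a, hP⟩ := exists_pair ε hMi hLa U hp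
  refine ⟨V, hV, hpV, ?_⟩
  obtain ⟨d, hd⟩ := (hP.frameM V le_rfl).2 (res Mi hV μ)
  dsimp only at hd
  rw [res_self] at hd
  rw [← Mero90.app_res, ← Mero90.app_res,
    show res _ hV (SecTwist.tmul Mi B U μ β) = tm Mi B (res Mi hV μ) (res B hV β) from res_tm hV μ β,
    ← hd, tm_smul_left]
  show val' g χ V _ = val' g χ' V _
  rw [val'_smul, val'_smul]
  congr 1
  have hf := (isFrame_pullS g hLa hP.frameL (g ⁻¹ᵁ V) le_rfl).1
  refine hf ?_
  dsimp only
  rw [res_self, ← h V m a hP, ← h' V m a hP]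

theorem exists_b (χ : CohB1.tensorMod Mi B ⟶ (Scheme.Modules.pushforward g).obj (Coh.structureModule T)) :
    ∃ b, Rel ε g χ b := by
  let G := (Scheme.Modules.pushforward g).obj ((Scheme.Modules.pullback g).obj La)
  let R : ∀ U : Z.Opens, Γ(B, U) → Γ(G, U) → Prop := fun U β σ =>
    ∀ (V : Z.Opens) (hV : V ≤ U) (m : Γ(Mi, V)) (a : Γ(La, V)), IsPair Mi La ε V m a →
      res ((Scheme.Modules.pullback g).obj La) (g.preimage_mono hV) σ =
        val' g χ V (tm Mi B m (res B hV β)) • pullS g La V a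
  have hR : LocFun R := by
    refine { res := ?_, uniq := ?_, exist := ?_, glue := ?_, add := ?_, smul := ?_ }
    · intro U U' hU x y h V hV m a hp
      have h1 := h V (hV.trans hU) m a hp
      rw [res_res B hU hV]
      refine Eq.trans ?_ h1
      exact res_res _ (g.preimage_mono hU) (g.preimage_mono hV) y
    · intro U x y y' h h'
      refine eq_of_locally ((Scheme.Modules.pullback g).obj La) _ _ fun t ht => ?_
      obtain ⟨V, hV, hgt, m, a, hp⟩ := exists_pair ε hMi hLa U (p := g t) ht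
      exact ⟨g ⁻¹ᵁ V, g.preimage_mono hV, hgt, (h V hV m a hp).trans (h' V hV m a hp).symm⟩
    · intro U x p hp
      obtain ⟨V, hV, hpV, m, a, hP⟩ := exists_pair ε hMi hLa U hp
      refine ⟨V, hV, hpV, val' g χ V (tm Mi B m (res B hV x)) • pullS g La V a, ?_⟩
      intro W hW m' a' hP'
      rw [res_smul, ← val'_res g χ hW, res_pullS g La hW, res_tm, res_res B hV hW]
      obtain ⟨v, w, hv, hw, hvw⟩ := (hP.res hW).exists_change hP'
      rw [hv, hw, tm_smul_left, val'_smul, pullS_smul, smul_smul]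
      congr 1
      have h1 : g.app W v * g.app W w = 1 := by rw [← map_mul, hvw, map_one]
      rw [mul_comm (g.app W v), mul_assoc, h1, mul_one]
    · intro U x y h V hV m a hp
      refine eq_of_locally ((Scheme.Modules.pullback g).obj La) _ _ fun t ht => ?_
      obtain ⟨W, hW, hgt, hRW⟩ := h (g t) (hV ht)
      refine ⟨g ⁻¹ᵁ (V ⊓ W), g.preimage_mono inf_le_left, ⟨ht, hgt⟩, ?_⟩
      have h1 := hRW (V ⊓ W) inf_le_right _ _ (hp.res inf_le_left)
      rw [res_res B hW] at h1
      rw [res_smul, ← val'_res g χ (inf_le_left : V ⊓ W ≤ V), res_pullS g La inf_le_left, res_tm, res_res B hV]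
      refine Eq.trans ?_ h1
      exact (res_res _ (g.preimage_mono hV) _ y).trans (res_res _ (g.preimage_mono hW) _ y).symm
    · intro U x x' y y' h h' V hV m a hp
      have e : res B hV (x + x') = res B hV x + res B hV x' := map_add _ _ _
      rw [e, tm_add_right, val'_add, add_smul, ← h V hV m a hp, ← h' V hV m a hp]
      exact map_add _ _ _
    · intro U r x y h V hV m a hp
      rw [res_smul, tm_smul_right, val'_smul, mul_smul, ← h V hV m a hp]
      refine Eq.trans ?_ (congrArg (· • _) (congr($(g.naturality (homOfLE hV).op) r)).symm)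
      exact res_smul ((Scheme.Modules.pullback g).obj La) (g.preimage_mono hV) (g.app U r) y
  refine ⟨((Scheme.Modules.pullbackPushforwardAdjunction g).homEquiv _ _).symm hR.hom, ?_⟩
  intro V m a hp β
  have h : (Scheme.Modules.pullbackPushforwardAdjunction g).homEquiv _ _
      (((Scheme.Modules.pullbackPushforwardAdjunction g).homEquiv _ _).symm hR.hom) = hR.hom :=
    Equiv.apply_symm_apply _ _
  rw [Adjunction.homEquiv_unit] at h
  refine (ConcreteCategory.congr_hom (congrArg (fun q => Scheme.Modules.Hom.app q V) h) β).trans ?_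
  have h2 := hR.hom_app V β V le_rfl m a hp
  rw [res_self B] at h2
  refine Eq.trans ?_ h2
  exact (res_self ((Scheme.Modules.pullback g).obj La) (hR.hom.app V β)).symm

variable (ε) in
/-- Contraction of inverse images. -/
def contract : CohB1.tensorMod ((Scheme.Modules.pullback g).obj Mi) ((Scheme.Modules.pullback g).obj La) ⟶
    Coh.structureModule T :=
  (@asIso _ _ _ _ (pullTensHom g Mi La) (isIso_pullTensHom g hMi hLa)).inv ≫
    (Scheme.Modules.pullback g).map ε.hom ≫ (PicLoc.pullbackStructureIso g).hom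

theorem contract_pair {V : Z.Opens} {m : Γ(Mi, V)} {a : Γ(La, V)} (hp : IsPair Mi La ε V m a) :
    (contract ε g hMi hLa).app (g ⁻¹ᵁ V) (tm _ _ (pullS g Mi V m) (pullS g La V a)) =
      ((1 : Γ(T, g ⁻¹ᵁ V)) : Γ(Coh.structureModule T, g ⁻¹ᵁ V)) := by
  haveI := isIso_pullTensHom g hMi hLa
  rw [← pullTensHom_tm g Mi La V m a]
  refine Eq.trans ?_ (pullbackStructureIso_pullS g V)
  rw [← hp.eq_one, ← map_app_pullS]
  show (PicLoc.pullbackStructureIso g).hom.app (g ⁻¹ᵁ V) (((Scheme.Modules.pullback g).map ε.hom).app (g ⁻¹ᵁ V)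
    ((inv (pullTensHom g Mi La)).app (g ⁻¹ᵁ V) ((pullTensHom g Mi La).app (g ⁻¹ᵁ V) _))) = _
  exact congrArg (fun z => (PicLoc.pullbackStructureIso g).hom.app (g ⁻¹ᵁ V)
      (((Scheme.Modules.pullback g).map ε.hom).app (g ⁻¹ᵁ V) z))
    (ConcreteCategory.congr_hom (congrArg (fun q => Scheme.Modules.Hom.app q (g ⁻¹ᵁ V))
      (IsIso.hom_inv_id (pullTensHom g Mi La))) _)

theorem exists_χ (b : (Scheme.Modules.pullback g).obj B ⟶ (Scheme.Modules.pullback g).obj La) :
    ∃ χ, Rel ε g χ b := by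
  let E := contract ε g hMi hLa
  let P : Mero90.Pairing Mi B ((Scheme.Modules.pushforward g).obj (Coh.structureModule T)) :=
    { b := fun U μ β => E.app (g ⁻¹ᵁ U) (tm _ _ (pullS g Mi U μ) (b.app (g ⁻¹ᵁ U) (pullS g B U β)))
      add_left := fun U μ μ' β => by
        rw [show pullS g Mi U (μ + μ') = pullS g Mi U μ + pullS g Mi U μ' from map_add _ _ _, tm_add_left]
        exact map_add _ _ _
      add_right := fun U μ β β' => by
        rw [show pullS g B U (β + β') = pullS g B U β + pullS g B U β' from map_add _ _ _, map_add, tm_add_right]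
        exact map_add _ _ _
      smul_left := fun U r μ β => by
        rw [pullS_smul, tm_smul_left, Scheme.Modules.Hom.app_smul]
        rfl
      smul_right := fun U r μ β => by
        rw [pullS_smul, Scheme.Modules.Hom.app_smul, tm_smul_right, Scheme.Modules.Hom.app_smul]
        rfl
      nat := fun U V h μ β => by
        rw [← res_pullS g Mi h, ← res_pullS g B h, Mero90.app_res, ← res_tm, Mero90.app_res]
        rfl }
  refine ⟨P.lift, fun V m a hp β => ?_⟩
  obtain ⟨c, hc⟩ := (isFrame_pullS g hLa hp.frameL (g ⁻¹ᵁ V) le_rfl).2 (b.app (g ⁻¹ᵁ V) (pullS g B V β))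
  dsimp only at hc
  rw [res_self] at hc
  rw [← hc]
  congr 1
  show c = P.lift.app V (SecTwist.tmul Mi B V m β)
  rw [P.lift_tmul]
  show c = E.app (g ⁻¹ᵁ V) (tm _ _ (pullS g Mi V m) (b.app (g ⁻¹ᵁ V) (pullS g B V β)))
  rw [← hc, tm_smul_right, Scheme.Modules.Hom.app_smul, contract_pair g hMi hLa hp]
  exact (mul_one c).symm

omit hMi hLa in
/-- Functoriality. -/
theorem Rel.comp {T' : Scheme.{u}} (h : T' ⟶ T)
    {χ : CohB1.tensorMod Mi B ⟶ (Scheme.Modules.pushforward g).obj (Coh.structureModule T)}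
    {b : (Scheme.Modules.pullback g).obj B ⟶ (Scheme.Modules.pullback g).obj La} (hr : Rel ε g χ b)
    {χ' : CohB1.tensorMod Mi B ⟶ (Scheme.Modules.pushforward (h ≫ g)).obj (Coh.structureModule T')}
    (hχ : ∀ V x, val' (h ≫ g) χ' V x = h.app (g ⁻¹ᵁ V) (val' g χ V x)) :
    Rel ε (h ≫ g) χ' ((Scheme.Modules.pullbackComp h g).inv.app B ≫ (Scheme.Modules.pullback h).map b ≫
      (Scheme.Modules.pullbackComp h g).hom.app La) := by
  intro V m a hp β
  show ((Scheme.Modules.pullbackComp h g).hom.app La).app ((h ≫ g) ⁻¹ᵁ V)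
    (((Scheme.Modules.pullback h).map b).app (h ⁻¹ᵁ (g ⁻¹ᵁ V))
      (((Scheme.Modules.pullbackComp h g).inv.app B).app ((h ≫ g) ⁻¹ᵁ V) (pullS (h ≫ g) B V β))) = _
  rw [Props58.PullTensor.pullS_comp h g B V β, map_app_pullS h b, hr V m a hp β, pullS_smul,
    ← Props58.PullTensor.pullS_comp h g La V a]
  refine (Scheme.Modules.Hom.app_smul _ _ _).trans ?_
  refine Eq.trans ?_ (congrArg (fun c : Γ(T', (h ≫ g) ⁻¹ᵁ V) => c • pullS (h ≫ g) La V a) (hχ V _).symm)
  exact congrArg (fun z : Γ((Scheme.Modules.pullback (h ≫ g)).obj La, (h ≫ g) ⁻¹ᵁ V) =>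
      (show Γ(T', (h ≫ g) ⁻¹ᵁ V) from h.app (g ⁻¹ᵁ V) (val' g χ V (tm Mi B m β))) • z)
    (ConcreteCategory.congr_hom (congrArg (fun q => Scheme.Modules.Hom.app q ((h ≫ g) ⁻¹ᵁ V))
      ((Scheme.Modules.pullbackComp h g).inv_hom_id_app La)) _)

end Groth.Agent.Pos60.Split
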